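import Groth.Agent.Lib.SBTaut.Stable.GeomInt
import Groth.Agent.H75.Birat.RatMap

/-!
# Birationality from isomorphic generic fibres
-/

set_option autoImplicit false
set_option linter.style.haveILetI false
universe u

open CategoryTheory CategoryTheory.Limits AlgebraicGeometry

noncomputable section

namespace Groth.Agent.Lib.SBTaut.Stable

open Groth.Agent.Lib

/-- A flat preimmersion from an integral scheme sends the generic point to the generic point. -/
theorem apply_genericPoint {G Z : Scheme.{u}} [IrreducibleSpace G] [IrreducibleSpace Z] (i : G ⟶ Z)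
    [Flat i] : i (genericPoint G) = genericPoint Z := by
  obtain ⟨g', hg', hi⟩ := Flat.generalizingMap i ((genericPoint_spec Z).specializes (Set.mem_univ (i (genericPoint G))))
  have : g' = genericPoint G :=
    (hg'.antisymm ((genericPoint_spec G).specializes (Set.mem_univ g'))).eq
  rw [← this, hi]

variable {S G Z W : Scheme.{u}} (p : Z ⟶ S) (q : W ⟶ S) (i : G ⟶ Z) (j : G ⟶ W)

theorem exists_stalk_iso [Flat i] [IsPreimmersion i] (x : G) {z : Z} (hz : i x = z) :
    ∃ a : Z.presheaf.stalk z ≅ G.presheaf.stalk x,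
      Spec.map a.hom ≫ Z.fromSpecStalk z = G.fromSpecStalk x ≫ i := by
  subst hz
  haveI := H75.Birat.isIso_stalkMap_of_flat_preimmersion i x
  exact ⟨asIso (i.stalkMap x), Scheme.SpecMap_stalkMap_fromSpecStalk i⟩

/-- Two integral schemes over `S` sharing a flat preimmersed integral scheme are birational. -/
theorem birationalOver_of_common [IsIntegral G] [IsIntegral Z] [IsIntegral W] [Flat i] [Flat j]
    [IsPreimmersion i] [IsPreimmersion j] [LocallyOfFiniteType p] [LocallyOfFiniteType q]
    (h : i ≫ p = j ≫ q) : Scheme.BirationalOver p q := by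
  obtain ⟨a, ha⟩ := exists_stalk_iso i (genericPoint G) (apply_genericPoint i)
  obtain ⟨b, hb⟩ := exists_stalk_iso j (genericPoint G) (apply_genericPoint j)
  have hs : p (genericPoint Z) = q (genericPoint W) := by
    rw [← apply_genericPoint i, ← apply_genericPoint j, ← Scheme.Hom.comp_apply, ← Scheme.Hom.comp_apply, h]
  refine H75.Birat.birationalOver_of_stalkIso p q hs (a ≪≫ b.symm) ?_
    (Or.inr ⟨inferInstance, inferInstance, inferInstance, inferInstance⟩)
  refine (H75.Birat.stalk_comm_iff p q _ _ hs (a ≪≫ b.symm).hom).mpr ?_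
  rw [Iso.trans_hom, Iso.symm_hom, Spec.map_comp, Category.assoc, reassoc_of% ha, h,
    ← reassoc_of% hb, ← Spec.map_comp_assoc, b.hom_inv_id, Spec.map_id, Category.id_comp]

variable {k : Type u} [Field k]

attribute [local instance] Curv2.stalkAlgebra

/-- Two geometrically integral factors with isomorphic fibres over `k(X)` give birational products. -/
theorem birationalOver_of_splittings {X Y₁ Y₂ : Scheme.{u}} [X.Over (Spec (CommRingCat.of k))]
    [IsIntegral X] [LocallyOfFiniteType (X ↘ Spec (CommRingCat.of k))]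
    (g₁ : Y₁ ⟶ Spec (CommRingCat.of k)) (g₂ : Y₂ ⟶ Spec (CommRingCat.of k))
    [GeometricallyIntegral g₁] [GeometricallyIntegral g₂] [LocallyOfFiniteType g₁] [LocallyOfFiniteType g₂]
    {M : ℕ} (e₁ : BrSev.Splitting g₁ X.functionField M) (e₂ : BrSev.Splitting g₂ X.functionField M) :
    Scheme.BirationalOver (pullback.fst (X ↘ Spec (CommRingCat.of k)) g₁ ≫ (X ↘ Spec (CommRingCat.of k)))
      (pullback.fst (X ↘ Spec (CommRingCat.of k)) g₂ ≫ (X ↘ Spec (CommRingCat.of k))) := by
  let f := X ↘ Spec (CommRingCat.of k)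
  haveI : IsLocallyNoetherian X := LocallyOfFiniteType.isLocallyNoetherian f
  haveI : LocallyOfFinitePresentation f := inferInstance
  let η := genericPoint ↥X
  let ι : Spec (CommRingCat.of X.functionField) ⟶ X := X.fromSpecStalk η
  have hι : ι ≫ f = Spec.map (CommRingCat.ofHom (algebraMap k X.functionField)) :=
    Amitsur.fromSpecStalk_over η
  haveI : Flat ι := H75.Birat.flat_fromSpecStalk X η
  haveI : IsPreimmersion ι := inferInstanceAs (IsPreimmersion (X.fromSpecStalk η))
  let p₁ := pullback.fst f g₁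
  let p₂ := pullback.fst f g₂
  haveI : LocallyOfFinitePresentation g₁ := inferInstance
  haveI : LocallyOfFinitePresentation g₂ := inferInstance
  haveI : Flat g₁ := FibreDeg.Basic.flat_of_field _
  haveI : Flat g₂ := FibreDeg.Basic.flat_of_field _
  haveI : IsIntegral (pullback f g₁) := inferInstance
  haveI : IsIntegral (pullback f g₂) := inferInstance
  -- the common generic fibre
  have h₁ := ((IsPullback.of_hasPullback p₁ ι).paste_horiz (IsPullback.of_hasPullback f g₁).flip)
  rw [hι] at h₁
  have h₂ := ((IsPullback.of_hasPullback p₂ ι).paste_horiz (IsPullback.of_hasPullback f g₂).flip)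
  rw [hι] at h₂
  let ψ₁ : pullback p₁ ι ≅ CohB1.ProjSpace M X.functionField := h₁.isoPullback ≪≫ e₁.iso
  let ψ₂ : pullback p₂ ι ≅ CohB1.ProjSpace M X.functionField := h₂.isoPullback ≪≫ e₂.iso
  have hψ₁ : ψ₁.hom ≫ CohB1.ProjSpace.toSpec M X.functionField = pullback.snd p₁ ι := by
    rw [Iso.trans_hom, Category.assoc, e₁.comm, h₁.isoPullback_hom_snd]
  have hψ₂ : ψ₂.hom ≫ CohB1.ProjSpace.toSpec M X.functionField = pullback.snd p₂ ι := by
    rw [Iso.trans_hom, Category.assoc, e₂.comm, h₂.isoPullback_hom_snd]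
  let i := pullback.fst p₁ ι
  let j := (ψ₁ ≪≫ ψ₂.symm).hom ≫ pullback.fst p₂ ι
  have hij : i ≫ p₁ = j ≫ p₂ := by
    rw [Category.assoc, pullback.condition, pullback.condition, ← hψ₂, ← hψ₁]
    simp only [Iso.trans_hom, Iso.symm_hom, Category.assoc]
    simp [ψ₁, ψ₂]
  haveI : IsIntegral (pullback p₁ ι) := by
    haveI : Nonempty (pullback p₁ ι : Scheme.{u}) := ⟨ψ₁.inv (Classical.arbitrary _)⟩
    exact isIntegral_of_isOpenImmersion ψ₁.hom
  haveI : Flat i := MorphismProperty.pullback_fst p₁ ι ‹_›
  haveI : Flat (pullback.fst p₂ ι) := MorphismProperty.pullback_fst p₂ ι ‹_›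
  haveI : Flat j := inferInstanceAs (Flat (_ ≫ pullback.fst p₂ ι))
  haveI : IsPreimmersion j := inferInstanceAs (IsPreimmersion (_ ≫ pullback.fst p₂ ι))
  obtain ⟨w, hw⟩ := birationalOver_of_common p₁ p₂ i j hij
  exact ⟨w, show w.iso.hom ≫ w.target.ι ≫ p₂ ≫ f = w.source.ι ≫ p₁ ≫ f by
    simpa only [Category.assoc] using congrArg (· ≫ f) hw⟩

end Groth.Agent.Lib.SBTaut.Stable
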