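import Groth.Agent.Lib.ProjSpace.Basic
import Groth.Agent.Lib.H1.SpecialBirat.Birat
import Groth.Agent.Lib.FibreDeg.Basic
import Mathlib.RingTheory.TensorProduct.MvPolynomial

/-!
# Products and birationality over a field
-/

set_option autoImplicit false
set_option linter.style.haveILetI false
set_option linter.unusedSimpArgs false
universe u

open CategoryTheory CategoryTheory.Limits AlgebraicGeometry
open scoped TensorProduct

noncomputable section

namespace Groth.Agent.Lib.SBTaut.Stable

open Groth.Agent.Lib H1.SpecialBirat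

variable {k : Type u} [Field k]

theorem universallyOpen_of_field {Y : Scheme.{u}} (g : Y ⟶ Spec (CommRingCat.of k))
    [LocallyOfFiniteType g] : UniversallyOpen g := by
  haveI : LocallyOfFinitePresentation g := inferInstance
  haveI : Flat g := FibreDeg.Basic.flat_of_field _
  infer_instance

/-- The product over `k`, with its structure map. -/
abbrev prodTo {X Y : Scheme.{u}} (f : X ⟶ Spec (CommRingCat.of k)) (g : Y ⟶ Spec (CommRingCat.of k)) :
    pullback f g ⟶ Spec (CommRingCat.of k) :=
  pullback.fst f g ≫ f

theorem swap {X Y : Scheme.{u}} (f : X ⟶ Spec (CommRingCat.of k)) (g : Y ⟶ Spec (CommRingCat.of k)) :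
    Scheme.BirationalOver (prodTo f g) (prodTo g f) :=
  birationalOver_swap f g

theorem congr_right {X Y Y' : Scheme.{u}} (f : X ⟶ Spec (CommRingCat.of k))
    [LocallyOfFiniteType f] {g : Y ⟶ Spec (CommRingCat.of k)} {g' : Y' ⟶ Spec (CommRingCat.of k)}
    (h : Scheme.BirationalOver g g') : Scheme.BirationalOver (prodTo f g) (prodTo f g') :=
  haveI := universallyOpen_of_field f
  birationalOver_prod h f

theorem congr_left {X X' Y : Scheme.{u}} {f : X ⟶ Spec (CommRingCat.of k)}
    {f' : X' ⟶ Spec (CommRingCat.of k)} (g : Y ⟶ Spec (CommRingCat.of k)) [LocallyOfFiniteType g]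
    (h : Scheme.BirationalOver f f') : Scheme.BirationalOver (prodTo f g) (prodTo f' g) :=
  (swap f g).trans ((congr_right g h).trans (swap g f'))

theorem assoc {X Y Z : Scheme.{u}} (f : X ⟶ Spec (CommRingCat.of k)) (g : Y ⟶ Spec (CommRingCat.of k))
    (h : Z ⟶ Spec (CommRingCat.of k)) :
    Scheme.BirationalOver (prodTo (prodTo f g) h) (prodTo f (prodTo g h)) := by
  let d : pullback (prodTo f g) h ⟶ pullback f (prodTo g h) :=
    pullback.lift (pullback.fst (prodTo f g) h ≫ pullback.fst f g)
      (pullback.lift (pullback.fst (prodTo f g) h ≫ pullback.snd f g) (pullback.snd (prodTo f g) h)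
        ((Category.assoc _ _ _).trans ((_ ≫= pullback.condition.symm).trans pullback.condition)))
      ((Category.assoc _ _ _).trans ((_ ≫= pullback.condition).trans ((Category.assoc _ _ _).symm.trans
        ((congrArg (· ≫ g) (pullback.lift_fst _ _ _).symm).trans (Category.assoc _ _ _)))))
  let d' : pullback f (prodTo g h) ⟶ pullback (prodTo f g) h :=
    pullback.lift (pullback.lift (pullback.fst f (prodTo g h)) (pullback.snd f (prodTo g h) ≫ pullback.fst g h)
        (by rw [Category.assoc]; exact pullback.condition))
      (pullback.snd f (prodTo g h) ≫ pullback.snd g h)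
      ((pullback.lift_fst_assoc _ _ _ _).trans (pullback.condition.trans
        ((_ ≫= pullback.condition).trans (Category.assoc _ _ _).symm)))
  haveI : IsIso d := by
    refine ⟨d', ?_, ?_⟩
    · apply pullback.hom_ext
      · apply pullback.hom_ext <;> simp only [d, d', Category.assoc, Category.id_comp, Category.comp_id, pullback.lift_fst, pullback.lift_snd, pullback.lift_fst_assoc, pullback.lift_snd_assoc]
      · simp only [d, d', Category.assoc, Category.id_comp, Category.comp_id, pullback.lift_fst, pullback.lift_snd, pullback.lift_fst_assoc, pullback.lift_snd_assoc]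
    · apply pullback.hom_ext
      · simp only [d, d', Category.assoc, Category.id_comp, Category.comp_id, pullback.lift_fst, pullback.lift_snd, pullback.lift_fst_assoc, pullback.lift_snd_assoc]
      · apply pullback.hom_ext <;> simp only [d, d', Category.assoc, Category.id_comp, Category.comp_id, pullback.lift_fst, pullback.lift_snd, pullback.lift_fst_assoc, pullback.lift_snd_assoc]
  exact birationalOver_of_isIso _ _ d ((pullback.lift_fst_assoc _ _ _ _).trans (Category.assoc _ _ _))

/-- Affine space. -/
abbrev aff (n : ℕ) (k : Type u) [Field k] :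
    Spec (CommRingCat.of (MvPolynomial (Fin n) k)) ⟶ Spec (CommRingCat.of k) :=
  Spec.map (CommRingCat.ofHom (algebraMap k (MvPolynomial (Fin n) k)))

theorem birationalOver_aff (n : ℕ) : Scheme.BirationalOver (aff n k) (CohB1.ProjSpace.toSpec n k) := by
  let j := ProjSpace.Basic.chartι k (0 : Fin (n + 1))
  haveI : IsDominant j :=
    ⟨IsOpen.dense j.isOpenEmbedding.isOpen_range (Set.range_nonempty _)⟩
  exact j.birationalOver _ _ (ProjSpace.Basic.chartι_toSpec k (0 : Fin (n + 1)))

theorem birationalOver_aff_prod (n m : ℕ) :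
    Scheme.BirationalOver (prodTo (aff n k) (aff m k)) (aff (n + m) k) := by
  let E : MvPolynomial (Fin n) k ⊗[k] MvPolynomial (Fin m) k ≃ₐ[k] MvPolynomial (Fin (n + m)) k :=
    (MvPolynomial.tensorEquivSum k (Fin n) (Fin m) k).trans (MvPolynomial.renameEquiv k finSumFinEquiv)
  haveI : IsIso (CommRingCat.ofHom E.symm.toRingEquiv.toRingHom) :=
    E.symm.toRingEquiv.toCommRingCatIso.isIso_hom
  let d : pullback (aff n k) (aff m k) ⟶ Spec (CommRingCat.of (MvPolynomial (Fin (n + m)) k)) :=
    (pullbackSpecIso k (MvPolynomial (Fin n) k) (MvPolynomial (Fin m) k)).hom ≫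
      Spec.map (CommRingCat.ofHom E.symm.toRingEquiv.toRingHom)
  haveI : IsIso d := inferInstanceAs (IsIso (_ ≫ Spec.map _))
  refine birationalOver_of_isIso _ _ d ?_
  have h1 : CommRingCat.ofHom (algebraMap k (MvPolynomial (Fin (n + m)) k)) ≫
      CommRingCat.ofHom E.symm.toRingEquiv.toRingHom =
      CommRingCat.ofHom (algebraMap k (MvPolynomial (Fin n) k)) ≫
        CommRingCat.ofHom (algebraMap (MvPolynomial (Fin n) k)
          (MvPolynomial (Fin n) k ⊗[k] MvPolynomial (Fin m) k)) :=
    CommRingCat.hom_ext (RingHom.ext fun r => E.symm.commutes r)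
  show d ≫ Spec.map _ = pullback.fst _ _ ≫ Spec.map _
  rw [Category.assoc, ← Spec.map_comp, h1, Spec.map_comp, ← pullbackSpecIso_hom_fst', Category.assoc]

/-- `P^n × P^m` is birational to `P^{n+m}`. -/
theorem birationalOver_proj_prod (n m : ℕ) :
    Scheme.BirationalOver (prodTo (CohB1.ProjSpace.toSpec n k) (CohB1.ProjSpace.toSpec m k))
      (CohB1.ProjSpace.toSpec (n + m) k) := by
  haveI := ProjSpace.Basic.isProper_toSpec m k
  haveI : LocallyOfFiniteType (aff n k) :=
    (HasRingHomProperty.Spec_iff (P := @LocallyOfFiniteType)).mpr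
      (RingHom.finiteType_algebraMap.mpr inferInstance)
  exact (congr_left (CohB1.ProjSpace.toSpec m k) (birationalOver_aff n).symm).trans
    ((congr_right (aff n k) (birationalOver_aff m).symm).trans
      ((birationalOver_aff_prod n m).trans (birationalOver_aff (n + m))))

end Groth.Agent.Lib.SBTaut.Stable
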