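import Groth.Agent.Lib.SBTaut.Stable.Fibre
import Groth.Agent.Lib.SBTaut.Stable.Prod
import Groth.Agent.Lib.SBTaut.Amitsur.Birational

/-!
# Stable birationality of Severi–Brauer schemes
-/

set_option autoImplicit false
set_option linter.style.haveILetI false
universe u

open CategoryTheory CategoryTheory.Limits AlgebraicGeometry
open scoped TensorProduct

noncomputable section

namespace Groth.Agent.Lib.SBTaut.Stable

open Groth.Agent.Lib

attribute [local instance] Curv2.stalkAlgebra

variable {k : Type u} [Field k] {A : Type u} [Ring A] [Algebra k A] [Algebra.IsCentral k A]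
  [IsSimpleRing A] {B : Type u} [Ring B] [Algebra k B] [Algebra.IsCentral k B] [IsSimpleRing B]
  {N M : ℕ}

/-- A field splitting `A` splits its Severi–Brauer scheme. -/
theorem nonempty_splitting_of_splits {X : Scheme.{u}} {f : X ⟶ Spec (CommRingCat.of k)}
    (hX : BrSev.IsSBOf k A ((N + 1) * (N + 1) - (N + 1)) f)
    (hA : Module.finrank k A = (N + 1) * (N + 1)) {F : Type u} [Field F] [Algebra k F]
    (h : Curves.Splits k A F) : Nonempty (BrSev.Splitting f F N) := by
  haveI := finiteDimensional_of_finrank (k := k) (A := A) hA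
  obtain ⟨σ⟩ := hX
  obtain ⟨q, hq, ⟨ψ⟩⟩ := h
  have hqd : q = N + 1 := by
    have h := ψ.toLinearEquiv.finrank_eq
    rw [Module.finrank_baseChange, hA, Module.finrank_matrix, Module.finrank_self, Fintype.card_fin, mul_one] at h
    exact (Nat.mul_self_inj.mp h).symm
  subst hqd
  exact SBAut.nonempty_splitting ψ N.succ_pos σ

/-- If `B` is a power of `A`, then `SB(A) × SB(B)` is birational to `SB(A) × P`. -/
theorem birationalOver_prod_proj {X Y : Scheme.{u}} (f : X ⟶ Spec (CommRingCat.of k))
    (g : Y ⟶ Spec (CommRingCat.of k)) (hX : BrSev.IsSBOf k A ((N + 1) * (N + 1) - (N + 1)) f)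
    (hA : Module.finrank k A = (N + 1) * (N + 1))
    (hY : BrSev.IsSBOf k B ((M + 1) * (M + 1) - (M + 1)) g)
    (hB : Module.finrank k B = (M + 1) * (M + 1)) {i : ℕ} (h : Brauer.BEq.BEq k B (CSAGal.tpow k A i)) :
    Scheme.BirationalOver (prodTo f g) (prodTo f (CohB1.ProjSpace.toSpec M k)) := by
  obtain ⟨e⟩ := Amitsur.nonempty_splitting_closure hX hA (AlgebraicClosure k)
  haveI := Amitsur.isProper_of_splitting e
  haveI := Amitsur.isIntegral_of_splitting e
  obtain ⟨e'⟩ := Amitsur.nonempty_splitting_closure hY hB (AlgebraicClosure k)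
  haveI := Amitsur.isProper_of_splitting e'
  haveI := finiteDimensional_of_finrank (k := k) (A := A) hA
  haveI := finiteDimensional_of_finrank (k := k) (A := B) hB
  letI : X.Over (Spec (CommRingCat.of k)) := ⟨f⟩
  haveI : LocallyOfFiniteType (X ↘ Spec (CommRingCat.of k)) := inferInstanceAs (LocallyOfFiniteType f)
  haveI := ProjSpace.Basic.isProper_toSpec M k
  haveI : GeometricallyIntegral g :=
    geometricallyIntegral_of_split g M fun Ω _ _ _ => Amitsur.nonempty_splitting_closure hY hB Ω
  haveI := geometricallyIntegral_proj (k := k) M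
  obtain ⟨c1, c2, c3⟩ := Brauer.Index.csa_tpow k A i
  have hs : Curves.Splits k B X.functionField :=
    Brauer.BEq.splits_of_beq h X.functionField (Brauer.BaseChange.splits_tpow X.functionField
      (Amitsur.splits_of_point hX hA
        ⟨X.fromSpecStalk (genericPoint ↥X), Amitsur.fromSpecStalk_over (k := k) (X := X) (genericPoint ↥X)⟩) i)
  obtain ⟨e₁⟩ := nonempty_splitting_of_splits hY hB hs
  obtain ⟨e₂⟩ := nonempty_splitting_proj (k := k) M X.functionField
  exact birationalOver_of_splittings g (CohB1.ProjSpace.toSpec M k) e₁ e₂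

/-- Algebras generating the same subgroup have stably birational Severi–Brauer schemes. -/
theorem stablyBirational {X Y : Scheme.{u}} (f : X ⟶ Spec (CommRingCat.of k))
    (g : Y ⟶ Spec (CommRingCat.of k)) (hX : BrSev.IsSBOf k A ((N + 1) * (N + 1) - (N + 1)) f)
    (hA : Module.finrank k A = (N + 1) * (N + 1))
    (hY : BrSev.IsSBOf k B ((M + 1) * (M + 1) - (M + 1)) g)
    (hB : Module.finrank k B = (M + 1) * (M + 1)) {i j : ℕ}
    (hi : Brauer.BEq.BEq k B (CSAGal.tpow k A i)) (hj : Brauer.BEq.BEq k A (CSAGal.tpow k B j)) :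
    Scheme.BirationalOver (prodTo f (CohB1.ProjSpace.toSpec (M + 1) k))
      (prodTo g (CohB1.ProjSpace.toSpec (N + 1) k)) := by
  obtain ⟨e⟩ := Amitsur.nonempty_splitting_closure hX hA (AlgebraicClosure k)
  haveI := Amitsur.isProper_of_splitting e
  obtain ⟨e'⟩ := Amitsur.nonempty_splitting_closure hY hB (AlgebraicClosure k)
  haveI := Amitsur.isProper_of_splitting e'
  haveI := ProjSpace.Basic.isProper_toSpec 1 k
  let P : ∀ n, CohB1.ProjSpace n k ⟶ Spec (CommRingCat.of k) := fun n => CohB1.ProjSpace.toSpec n k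
  have hXY : Scheme.BirationalOver (prodTo f (P M)) (prodTo g (P N)) :=
    (birationalOver_prod_proj f g hX hA hY hB hi).symm.trans
      ((swap f g).trans (birationalOver_prod_proj g f hY hB hX hA hj))
  exact (congr_right f (birationalOver_proj_prod M 1).symm).trans
    ((assoc f (P M) (P 1)).symm.trans ((congr_left (P 1) hXY).trans
      ((assoc g (P N) (P 1)).trans (congr_right g (birationalOver_proj_prod N 1)))))

end Groth.Agent.Lib.SBTaut.Stable
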